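import Mathlib

/-!
The extension of the Heisenberg group of order 27 by `SL₂(3)`, by parametrisations.
-/

set_option autoImplicit false

namespace CfsgLib.Classical.HeisSL

/-- The field. -/
abbrev K := ZMod 3

/-- The points of the Heisenberg group. -/
abbrev H := K × K × K

/-- The special linear group. -/
abbrev SL2 := Matrix.SpecialLinearGroup (Fin 2) K

/-- The symplectic product of the first two coordinates. -/
def om (p q : H) : K := p.1 * q.2.1 - p.2.1 * q.1

/-- The multiplication. -/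
def mulH (p q : H) : H := (p.1 + q.1, p.2.1 + q.2.1, p.2.2 + q.2.2 - om p q)

/-- The inverse. -/
def invH (p : H) : H := (-p.1, -p.2.1, -p.2.2)

/-- The action of matrices. -/
def act (A : SL2) (p : H) : H :=
  (A.1 0 0 * p.1 + A.1 0 1 * p.2.1, A.1 1 0 * p.1 + A.1 1 1 * p.2.1, p.2.2)

/-- A parametrisation of a group. -/
structure Param (X : Type*) [Group X] where
  φ : H → X
  s : SL2 →* X
  φ_mul : ∀ p q, φ p * φ q = φ (mulH p q)
  conj : ∀ A p, s A * φ p * (s A)⁻¹ = φ (act A p)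
  bij : Function.Bijective fun q : H × SL2 => φ q.1 * s q.2

theorem Param.mul_eq {X : Type*} [Group X] (P : Param X) (p q : H) (A B : SL2) :
    P.φ p * P.s A * (P.φ q * P.s B) = P.φ (mulH p (act A q)) * P.s (A * B) := by
  rw [← P.φ_mul, ← P.conj, map_mul]
  group

theorem Param.iso {X Y : Type*} [Group X] [Group Y] (P : Param X) (Q : Param Y) : Nonempty (X ≃* Y) := by
  let e : X ≃ Y := (Equiv.ofBijective _ P.bij).symm.trans (Equiv.ofBijective _ Q.bij)
  refine ⟨{ e with map_mul' := fun x y => ?_ }⟩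
  obtain ⟨⟨p, A⟩, rfl⟩ := P.bij.2 x
  obtain ⟨⟨q, B⟩, rfl⟩ := P.bij.2 y
  have he : ∀ p A, e (P.φ p * P.s A) = Q.φ p * Q.s A := fun p A => by
    show Equiv.ofBijective _ Q.bij ((Equiv.ofBijective _ P.bij).symm (P.φ p * P.s A)) = _
    rw [show P.φ p * P.s A = Equiv.ofBijective _ P.bij (p, A) from rfl, Equiv.symm_apply_apply]
    rfl
  show e (P.φ p * P.s A * (P.φ q * P.s B)) = e (P.φ p * P.s A) * e (P.φ q * P.s B)
  rw [P.mul_eq, he, he, he, Q.mul_eq]

theorem sl2_cases : ∀ A : SL2, A ≠ 1 →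
    A = -1 ∨ A * A = -1 ∨ A * A * A = -1 ∨
      ∃ B : SL2, (A * B * A⁻¹ * B⁻¹) * (A * B * A⁻¹ * B⁻¹) = -1 := by
  decide +kernel

theorem sl2_neg_one_comm (A : SL2) : A * -1 = -1 * A := by
  apply Subtype.ext
  simp

theorem sl2_card : Nat.card SL2 = 24 := by
  rw [Nat.card_eq_fintype_card]
  decide +kernel

theorem sl2_pow_eight : ∀ A : SL2, A ^ 8 = 1 → A ^ 4 = 1 := by
  decide +kernel

theorem sl2_card_four : Nat.card {A : SL2 // A ^ 4 = 1} = 8 := by
  rw [Nat.card_eq_fintype_card]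
  decide +kernel

end CfsgLib.Classical.HeisSL
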