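import Cfsg.Agent.Lib.Classical.HeisSL.Inversion

/-!
Coordinates on the normal subgroup of order 27.
-/

set_option autoImplicit false

namespace CfsgLib.Classical.HeisSL

variable {X : Type*} [Group X]

/-- Powers with exponents in the field. -/
def pw (a : X) (x : K) : X := a ^ x.val

theorem pw_natCast {a : X} (ha : a ^ 3 = 1) (n : ℕ) : a ^ n = pw a (n : K) := by
  rw [pw, ZMod.val_natCast, pow_eq_pow_mod n ha]

theorem pw_add {a : X} (ha : a ^ 3 = 1) (x y : K) : pw a x * pw a y = pw a (x + y) := by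
  rw [pw, pw, ← pow_add, pw_natCast ha, Nat.cast_add, ZMod.natCast_zmod_val, ZMod.natCast_zmod_val]

theorem pw_zero (a : X) : pw a 0 = 1 := by rw [pw, ZMod.val_zero, pow_zero]

theorem pw_one (a : X) : pw a 1 = a := by rw [pw, ZMod.val_one, pow_one]

theorem pw_neg {a : X} (ha : a ^ 3 = 1) (x : K) : pw a (-x) = (pw a x)⁻¹ :=
  eq_inv_of_mul_eq_one_left (by rw [pw_add ha, neg_add_cancel, pw_zero])

theorem pw_inv {a : X} (ha : a ^ 3 = 1) (x : K) : pw a⁻¹ x = pw a (-x) := by
  rw [pw_neg ha, pw, pw, inv_pow]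

theorem pw_swap {a b ζ : X} (ha : a ^ 3 = 1) (hb : b ^ 3 = 1) (hζ : ζ ^ 3 = 1) (hza : Commute ζ a)
    (hzb : Commute ζ b) (hba : b * a = a * b * ζ ^ 2) (x y : K) :
    pw b y * pw a x = pw a x * pw b y * pw ζ (-(x * y)) := by
  have h1 : ∀ n : ℕ, b * a ^ n = a ^ n * b * ζ ^ (2 * n) := by
    intro n
    induction n with
    | zero => simp
    | succ n ih =>
      rw [pow_succ, ← mul_assoc, ih, mul_assoc _ _ a, (hza.pow_left _).eq, ← mul_assoc, mul_assoc (a ^ n) b a, hba,
        show 2 * (n + 1) = 2 + 2 * n by ring, pow_add ζ]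
      simp only [mul_assoc]
  have h2 : ∀ m n : ℕ, b ^ m * a ^ n = a ^ n * b ^ m * ζ ^ (2 * n * m) := by
    intro m n
    induction m with
    | zero => simp
    | succ m ih =>
      rw [pow_succ' b, mul_assoc, ih, ← mul_assoc, ← mul_assoc, h1, mul_assoc _ _ (b ^ m),
        ((hzb.pow_left _).pow_right m).eq, show 2 * n * (m + 1) = 2 * n + 2 * n * m by ring, pow_add ζ]
      simp only [mul_assoc]
  rw [pw, pw, h2, pw_natCast hζ (2 * x.val * y.val)]
  congr 2
  push_cast
  simp only [ZMod.natCast_zmod_val]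
  revert x y
  decide +kernel

/-- The parametrising map. -/
def phi (a b ζ : X) (p : H) : X := pw a p.1 * pw b p.2.1 * pw ζ (p.1 * p.2.1 + p.2.2)

theorem phi_mul {a b ζ : X} (ha : a ^ 3 = 1) (hb : b ^ 3 = 1) (hζ : ζ ^ 3 = 1) (hza : Commute ζ a)
    (hzb : Commute ζ b) (hba : b * a = a * b * ζ ^ 2) (p q : H) :
    phi a b ζ p * phi a b ζ q = phi a b ζ (mulH p q) := by
  obtain ⟨x, y, z⟩ := p
  obtain ⟨x', y', z'⟩ := q
  simp only [phi, mulH, om]
  set s := x * y + z with hs
  set s' := x' * y' + z' with hs'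
  have hcs : ∀ (u t : K), Commute (pw ζ u) (pw a t) ∧ Commute (pw ζ u) (pw b t) := fun u t =>
    ⟨(hza.pow_left _).pow_right _, (hzb.pow_left _).pow_right _⟩
  calc pw a x * pw b y * pw ζ s * (pw a x' * pw b y' * pw ζ s')
      = pw a x * pw b y * (pw ζ s * pw a x') * pw b y' * pw ζ s' := by group
    _ = pw a x * pw b y * (pw a x' * pw ζ s) * pw b y' * pw ζ s' := by rw [(hcs s x').1.eq]
    _ = pw a x * (pw b y * pw a x') * (pw ζ s * pw b y') * pw ζ s' := by group
    _ = pw a x * (pw a x' * pw b y * pw ζ (-(x' * y))) * (pw b y' * pw ζ s) * pw ζ s' := by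
        rw [pw_swap ha hb hζ hza hzb hba, (hcs s y').2.eq]
    _ = (pw a x * pw a x') * pw b y * (pw ζ (-(x' * y)) * pw b y') * (pw ζ s * pw ζ s') := by group
    _ = (pw a x * pw a x') * pw b y * (pw b y' * pw ζ (-(x' * y))) * (pw ζ s * pw ζ s') := by
        rw [(hcs _ y').2.eq]
    _ = (pw a x * pw a x') * (pw b y * pw b y') * (pw ζ (-(x' * y)) * (pw ζ s * pw ζ s')) := by group
    _ = _ := by
        rw [pw_add ha, pw_add hb, pw_add hζ, pw_add hζ]
        congr 2
        have h3 : (3 : K) = 0 := by decide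
        simp only [hs, hs']
        linear_combination (-(x' * y)) * h3

namespace Setting

variable {π : X →* SL2} (hS : Setting π)
include hS

theorem exists_phi [Finite X] {j : X} (hjj : j * j = 1) (hj : π j = -1) :
    ∃ φ : H → X, (∀ p q, φ p * φ q = φ (mulH p q)) ∧ Function.Injective φ ∧ Set.range φ = (π.ker : Set X) ∧
      ∀ p, j * φ p * j = φ (-p.1, -p.2.1, p.2.2) := by
  classical
  have hinv := hS.inverts hjj hj
  have hjker : ∀ r ∈ π.ker, j * r * j ∈ π.ker := fun r hr => by
    have := (MonoidHom.normal_ker π).conj_mem r hr j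
    rwa [inv_eq_of_mul_eq_one_right hjj] at this
  -- inverted representatives
  let u : X → X := fun r => r⁻¹ * (j * r * j)
  have hu1 : ∀ r ∈ π.ker, u r ∈ π.ker := fun r hr => mul_mem (inv_mem hr) (hjker r hr)
  have hu2 : ∀ r, j * u r * j = (u r)⁻¹ := fun r => by
    simp only [u, mul_inv_rev, inv_inv, inv_eq_of_mul_eq_one_right hjj]
    simp [mul_assoc, hjj]
  have hu3 : ∀ r ∈ π.ker, ∃ z ∈ zen π, u r = r * z := fun r hr => by
    have hz := hinv r hr
    refine ⟨_, hz, ?_⟩
    have hc : r * (j * r * j * r) = j * r * j * r * r := hz.2 r hr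
    calc u r = r⁻¹ * (j * r * j * r * r) * (r ^ 3)⁻¹ * r := by simp only [u]; group
    _ = r * (j * r * j * r) := by
      rw [← hc, hS.exp r hr, inv_one, mul_one, inv_mul_cancel_left]; exact hc.symm ▸ (hz.2 r hr).symm
  obtain ⟨a0, ha0, b0, hb0, hab0⟩ := hS.exists_noncomm
  set a := u a0 with hadef
  set b := u b0 with hbdef
  have ha : a ∈ π.ker := hu1 _ ha0
  have hb : b ∈ π.ker := hu1 _ hb0
  set ζ := a * b * a⁻¹ * b⁻¹ with hζ
  have hζz : ζ ∈ zen π := hS.comm a ha b hb
  have hab : a * b ≠ b * a := by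
    obtain ⟨z, hz, ea⟩ := hu3 a0 ha0
    obtain ⟨w, hw, eb⟩ := hu3 b0 hb0
    rw [hadef, hbdef, ea, eb]
    intro e
    refine hab0 ?_
    have e1 : a0 * z * (b0 * w) = a0 * b0 * (z * w) := by
      rw [mul_assoc a0, ← mul_assoc z, ← hz.2 b0 hb0]; simp only [mul_assoc]
    have e2 : b0 * w * (a0 * z) = b0 * a0 * (z * w) := by
      rw [mul_assoc b0, ← mul_assoc w, ← hw.2 a0 ha0, hw.2 z hz.1]; simp only [mul_assoc]
    rw [e1, e2] at e
    exact mul_right_cancel e
  have hζ1 : ζ ≠ 1 := fun e => hab (by rwa [hζ, mul_inv_eq_one, mul_inv_eq_iff_eq_mul] at e)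
  have ha3 := hS.exp a ha
  have hb3 := hS.exp b hb
  have hζ3 := hS.exp ζ hζz.1
  have hza : Commute ζ a := (hζz.2 a ha).symm
  have hzb : Commute ζ b := (hζz.2 b hb).symm
  have hba : b * a = a * b * ζ ^ 2 := by
    have e : ζ * (b * a) = a * b := by rw [hζ]; group
    calc b * a = ζ ^ 3 * (b * a) := by rw [hζ3, one_mul]
    _ = ζ ^ 2 * (ζ * (b * a)) := by group
    _ = a * b * ζ ^ 2 := by rw [e]; exact (((hza.mul_right hzb).pow_left 2)).eq
  let φ := phi a b ζ
  have hmul : ∀ p q, φ p * φ q = φ (mulH p q) := phi_mul ha3 hb3 hζ3 hza hzb hba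
  have hφR : ∀ p, φ p ∈ π.ker := fun p =>
    mul_mem (mul_mem (pow_mem ha _) (pow_mem hb _)) (pow_mem hζz.1 _)
  have hone : ∀ p, φ p = 1 → p = 0 := by
    rintro ⟨x, y, z⟩ e
    simp only [φ, phi] at e
    have hsq : ∀ t : K, t ≠ 0 → t * t = 1 := by decide
    have hy : y = 0 := by
      by_contra hy
      have e' : pw b y = (pw a x)⁻¹ * (pw ζ (x * y + z))⁻¹ := by
        calc pw b y = (pw a x)⁻¹ * (pw a x * pw b y * pw ζ (x * y + z)) * (pw ζ (x * y + z))⁻¹ := by group
        _ = _ := by rw [e, mul_one]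
      have hc : Commute a (pw b y) := by
        rw [e']
        exact (((Commute.refl a).pow_right _).inv_right).mul_right ((hza.symm.pow_right _).inv_right)
      have : Commute a (pw b (y * y)) := by
        have := hc.pow_right y.val
        rwa [pw, ← pow_mul, pw_natCast hb3, Nat.cast_mul, ZMod.natCast_zmod_val] at this
      rw [hsq y hy, pw_one] at this
      exact hab this
    have hx : x = 0 := by
      by_contra hx
      rw [hy, pw_zero, mul_one] at e
      have e' : pw a x = (pw ζ (x * y + z))⁻¹ := by rw [hy]; exact eq_inv_of_mul_eq_one_left e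
      have hc : Commute b (pw a x) := by rw [e']; exact (hzb.symm.pow_right _).inv_right
      have : Commute b (pw a (x * x)) := by
        have := hc.pow_right x.val
        rwa [pw, ← pow_mul, pw_natCast ha3, Nat.cast_mul, ZMod.natCast_zmod_val] at this
      rw [hsq x hx, pw_one] at this
      exact hab this.symm
    subst hx hy
    have hz : z = 0 := by
      by_contra hz
      rw [pw_zero, pw_zero, one_mul, one_mul, mul_zero, zero_add] at e
      refine hζ1 ?_
      have : pw ζ (z * z) = 1 := by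
        rw [← ZMod.natCast_zmod_val z, ← Nat.cast_mul, ← pw_natCast hζ3, pow_mul]
        show (pw ζ z) ^ _ = 1
        rw [e, one_pow]
      rwa [hsq z hz, pw_one] at this
    subst hz; rfl
  have hinj : Function.Injective φ := fun p q e => by
    have h0 : φ (mulH p (invH q)) = 1 := by
      rw [← hmul, e, hmul, show mulH q (invH q) = 0 by simp [mulH, invH, om]; ring]
      simp [φ, phi, pw_zero]
    have := hone _ h0
    simp only [mulH, invH, om, Prod.ext_iff, Prod.fst_zero, Prod.snd_zero] at this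
    obtain ⟨e1, e2, e3⟩ := this
    have f1 : p.1 = q.1 := by linear_combination e1
    have f2 : p.2.1 = q.2.1 := by linear_combination e2
    refine Prod.ext f1 (Prod.ext f2 ?_)
    rw [f1, f2] at e3
    linear_combination e3
  refine ⟨φ, hmul, hinj, ?_, ?_⟩
  · refine Set.eq_of_subset_of_ncard_le (by rintro _ ⟨p, rfl⟩; exact hφR p) ?_ (Set.toFinite _)
    rw [Set.ncard_range_of_injective hinj, ← Nat.card_coe_set_eq]
    show Nat.card π.ker ≤ _
    rw [hS.card]
    simp [Nat.card_prod]
  · rintro ⟨x, y, z⟩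
    have hjζ : j * ζ * j = ζ := by
      have hconj : ∀ v w, j * (v * w) * j = (j * v * j) * (j * w * j) := fun v w => by
        simp only [mul_assoc]; simp [← mul_assoc j j, hjj]
      have ea : j * a⁻¹ * j = a := by
        have := congrArg (·⁻¹) (hu2 a0)
        simpa [mul_inv_rev, inv_eq_of_mul_eq_one_right hjj, mul_assoc, ← hadef] using this
      have eb : j * b⁻¹ * j = b := by
        have := congrArg (·⁻¹) (hu2 b0)
        simpa [mul_inv_rev, inv_eq_of_mul_eq_one_right hjj, mul_assoc, ← hbdef] using this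
      calc j * ζ * j = a⁻¹ * b⁻¹ * a * b := by rw [hζ, hconj, hconj, hconj, hu2, hu2, ea, eb]
      _ = a⁻¹ * b⁻¹ * (a * b * a⁻¹ * b⁻¹) * (b * a) := by group
      _ = a⁻¹ * b⁻¹ * (ζ * (b * a)) := by rw [hζ]; group
      _ = ζ := by rw [(hzb.mul_right hza).eq]; group
    have hjh : ∀ (v : X) (t : K), j * pw v t * j = pw (j * v * j) t := fun v t => by
      conv_lhs => rw [pw]; arg 2; rw [← inv_eq_of_mul_eq_one_right hjj]
      rw [← conj_pow, inv_eq_of_mul_eq_one_right hjj]
      rfl
    have hconj : ∀ v w, j * (v * w) * j = (j * v * j) * (j * w * j) := fun v w => by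
      simp only [mul_assoc]; simp [← mul_assoc j j, hjj]
    simp only [φ, phi]
    rw [hconj, hconj, hjh, hjh, hjh, hu2, hu2, hjζ, pw_inv ha3, pw_inv hb3]
    congr 2
    ring

end Setting

end CfsgLib.Classical.HeisSL
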