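import Cfsg.Agent.Lib.Classical.HeisSL.Basic

/-!
An involution over `-1` inverts the quotient of the normal subgroup of order 27 by its centre.
-/

set_option autoImplicit false
set_option linter.style.haveILetI false

namespace CfsgLib.Classical.HeisSL

variable {X : Type*} [Group X]

/-- The centre of the kernel. -/
def zen (π : X →* SL2) : Subgroup X := π.ker ⊓ Subgroup.centralizer (π.ker : Set X)

/-- The hypotheses. -/
structure Setting (π : X →* SL2) : Prop where
  surj : Function.Surjective π
  exp : ∀ r ∈ π.ker, r ^ 3 = 1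
  comm : ∀ r ∈ π.ker, ∀ s ∈ π.ker, r * s * r⁻¹ * s⁻¹ ∈ zen π
  card : Nat.card π.ker = 27
  card_zen : Nat.card (zen π) = 3
  noTwo : ∀ c : X, c * c = 1 → (∀ g, Commute g c) → c = 1

theorem sl2_neg_one_ne : (-1 : SL2) ≠ 1 := by decide

theorem exists_four : ∃ A : SL2, A * A = -1 := by decide +kernel

namespace Setting

variable {π : X →* SL2} (hS : Setting π)
include hS

theorem exists_inv : ∃ j : X, j * j = 1 ∧ π j = -1 := by
  obtain ⟨x, hx⟩ := hS.surj (-1)
  have h2 : x ^ 2 ∈ π.ker := by rw [MonoidHom.mem_ker, map_pow, hx]; decide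
  refine ⟨x ^ 3, ?_, ?_⟩
  · rw [← pow_add, show (3 + 3 : ℕ) = 2 * 3 by norm_num, pow_mul, hS.exp _ h2]
  · rw [map_pow, hx]; decide

theorem centralizer_le {c : X} (hc : ∀ r ∈ π.ker, c * r = r * c) : π c = 1 := by
  by_contra h
  -- all elements whose image is the negative identity are excluded
  have key : ∀ w : X, (∀ r ∈ π.ker, w * r = r * w) → π w ≠ -1 := by
    intro w hw hw1
    have h2 : w ^ 2 ∈ π.ker := by rw [MonoidHom.mem_ker, map_pow, hw1]; decide
    set i := w ^ 3 with hi
    have hii : i * i = 1 := by
      rw [hi, ← pow_add, show (3 + 3 : ℕ) = 2 * 3 by norm_num, pow_mul, hS.exp _ h2]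
    have hi1 : π i = -1 := by rw [hi, map_pow, hw1]; decide
    have hir : ∀ r ∈ π.ker, i * r = r * i := fun r hr => ((show Commute w r from hw r hr).pow_left 3).eq
    have hcen : ∀ g, Commute g i := by
      intro g
      -- the conjugate differs by an element centralizing everything
      set k := i * (g * i * g⁻¹) with hk
      have hkker : k ∈ π.ker := by
        rw [MonoidHom.mem_ker, hk, map_mul, map_mul, map_mul, map_inv, hi1, sl2_neg_one_comm, mul_assoc (-1 : SL2),
          mul_inv_cancel, mul_one]
        decide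
      have hik : i * k = k * i := hir k hkker
      have hkk : k * k = 1 := by
        have e : g * i * g⁻¹ = i * k := by rw [hk, ← mul_assoc, hii, one_mul]
        calc k * k = (i * k) * (i * k) := by
              symm
              calc i * k * (i * k) = i * (k * i) * k := by group
              _ = (i * i) * (k * k) := by rw [← hik]; group
              _ = k * k := by rw [hii, one_mul]
          _ = (g * i * g⁻¹) * (g * i * g⁻¹) := by rw [e]
          _ = g * (i * i) * g⁻¹ := by group
          _ = 1 := by rw [hii]; group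
      have hk1 : k = 1 := by
        calc k = k ^ 3 * (k * k)⁻¹ := by group
        _ = 1 := by rw [hS.exp k hkker, hkk]; simp
      have e : g * i * g⁻¹ = i := by
        calc g * i * g⁻¹ = i * k := by rw [hk, ← mul_assoc, hii, one_mul]
        _ = i := by rw [hk1, mul_one]
      show g * i = i * g
      calc g * i = g * i * g⁻¹ * g := by group
      _ = i * g := by rw [e]
    have : i = 1 := hS.noTwo i hii hcen
    rw [this, map_one] at hi1
    exact sl2_neg_one_ne hi1.symm
  have hmul : ∀ {u v : X}, (∀ r ∈ π.ker, u * r = r * u) → (∀ r ∈ π.ker, v * r = r * v) →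
      ∀ r ∈ π.ker, u * v * r = r * (u * v) := fun hu hv r hr =>
    ((show Commute _ r from hu r hr).mul_left (show Commute _ r from hv r hr)).eq
  have hconj : ∀ (g : X) {u : X}, (∀ r ∈ π.ker, u * r = r * u) → ∀ r ∈ π.ker, g * u * g⁻¹ * r = r * (g * u * g⁻¹) := by
    intro g u hu r hr
    have := hu (g⁻¹ * r * g) (by simpa using (MonoidHom.normal_ker π).conj_mem r hr g⁻¹)
    calc g * u * g⁻¹ * r = g * (u * (g⁻¹ * r * g)) * g⁻¹ := by group
    _ = g * ((g⁻¹ * r * g) * u) * g⁻¹ := by rw [this]
    _ = r * (g * u * g⁻¹) := by group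
  rcases sl2_cases (π c) h with h1 | h1 | h1 | ⟨B, h1⟩
  · exact key c hc h1
  · exact key (c * c) (hmul hc hc) (by rw [map_mul]; exact h1)
  · exact key (c * c * c) (hmul (hmul hc hc) hc) (by rw [map_mul, map_mul]; exact h1)
  · obtain ⟨b, rfl⟩ := hS.surj B
    have hci : ∀ r ∈ π.ker, c⁻¹ * r = r * c⁻¹ := fun r hr => ((show Commute c r from hc r hr).inv_left).eq
    have hu : ∀ r ∈ π.ker, c * (b * c⁻¹ * b⁻¹) * r = r * (c * (b * c⁻¹ * b⁻¹)) := hmul hc (hconj b hci)
    refine key _ (hmul hu hu) ?_
    rw [← h1]
    simp [mul_assoc]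

omit hS in
theorem zen_normal : (zen π).Normal := by
  refine ⟨fun z hz g => ⟨(MonoidHom.normal_ker π).conj_mem z hz.1 g, fun r hr => ?_⟩⟩
  have := hz.2 (g⁻¹ * r * g) (by simpa using (MonoidHom.normal_ker π).conj_mem r hr g⁻¹)
  calc r * (g * z * g⁻¹) = g * ((g⁻¹ * r * g) * z) * g⁻¹ := by group
  _ = g * (z * (g⁻¹ * r * g)) * g⁻¹ := by rw [this]
  _ = g * z * g⁻¹ * r := by group

theorem exists_noncomm : ∃ r ∈ π.ker, ∃ s ∈ π.ker, r * s ≠ s * r := by
  by_contra h
  push Not at h
  have : zen π = π.ker := inf_eq_left.mpr fun r hr s hs => h s hs r hr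
  have h1 := hS.card_zen
  rw [this, hS.card] at h1
  norm_num at h1

theorem inverts [Finite X] {j : X} (hjj : j * j = 1) (hj : π j = -1) :
    ∀ r ∈ π.ker, j * r * j * r ∈ zen π := by
  classical
  haveI := zen_normal (π := π)
  let q := QuotientGroup.mk' (zen π)
  have hq : ∀ x, q x = 1 ↔ x ∈ zen π := fun x => QuotientGroup.eq_one_iff x
  have hqc : ∀ r ∈ π.ker, ∀ s ∈ π.ker, Commute (q r) (q s) := fun r hr s hs => by
    have := (hq _).mpr (hS.comm r hr s hs)
    rw [map_mul, map_mul, map_mul, map_inv, map_inv, mul_inv_eq_one, mul_inv_eq_iff_eq_mul] at this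
    exact this
  have hj' : q j * q j = 1 := by rw [← map_mul, hjj, map_one]
  have hjker : ∀ r ∈ π.ker, j * r * j ∈ π.ker := fun r hr => by
    have := (MonoidHom.normal_ker π).conj_mem r hr j
    rwa [inv_eq_of_mul_eq_one_right hjj] at this
  -- the fixed points modulo the centre
  let A : Subgroup X :=
    { carrier := {r | r ∈ π.ker ∧ Commute (q j) (q r)}
      one_mem' := ⟨one_mem _, by rw [map_one]; exact Commute.one_right _⟩
      mul_mem' := fun {a b} ha hb => ⟨mul_mem ha.1 hb.1, by rw [map_mul]; exact ha.2.mul_right hb.2⟩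
      inv_mem' := fun {a} ha => ⟨inv_mem ha.1, by rw [map_inv]; exact ha.2.inv_right⟩ }
  have hzA : zen π ≤ A := fun z hz => ⟨hz.1, by rw [(hq z).mpr hz]; exact Commute.one_right _⟩
  have hAk : A ≤ π.ker := fun r hr => hr.1
  -- conjugation by any element preserves the fixed points
  have hAn : ∀ g, ∀ r ∈ A, g * r * g⁻¹ ∈ A := by
    intro g r hr
    refine ⟨(MonoidHom.normal_ker π).conj_mem r hr.1 g, ?_⟩
    set k := g⁻¹ * j * g * j with hk
    have hkker : k ∈ π.ker := by
      rw [MonoidHom.mem_ker, hk, map_mul, map_mul, map_mul, map_inv, hj, mul_assoc _ (-1 : SL2),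
        ← sl2_neg_one_comm, ← mul_assoc, inv_mul_cancel, one_mul]
      decide
    have e : g⁻¹ * j * g = k * j := by rw [hk, mul_assoc (g⁻¹ * j * g), hjj, mul_one]
    have hcm : Commute (q (g⁻¹ * j * g)) (q r) := by
      rw [e, map_mul]; exact (hqc k hkker r hr.1).mul_left hr.2
    have := hcm.map (MulAut.conj (q g)).toMonoidHom
    simpa [map_mul, map_inv, mul_assoc] using this
  -- the fixed points are central
  have hA : A ≤ zen π := by
    by_contra hne
    obtain ⟨a, haA, haZ⟩ : ∃ a ∈ A, a ∉ zen π := SetLike.not_le_iff_exists.mp hne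
    -- every element of the kernel is fixed modulo the fixed points
    have hstep : ∀ r ∈ π.ker, j * r * j * r⁻¹ ∈ A := by
      have hdvd : Nat.card A ∣ 27 := hS.card ▸ Subgroup.card_dvd_of_le hAk
      have hlt : 3 < Nat.card A := by
        rw [← hS.card_zen]
        refine lt_of_le_of_ne (Nat.le_of_dvd Nat.card_pos (Subgroup.card_dvd_of_le hzA)) fun e => haZ ?_
        rw [Subgroup.eq_of_le_of_card_ge hzA e.ge]; exact haA
      obtain ⟨i, hi, hiA⟩ := (Nat.dvd_prime_pow Nat.prime_three).mp (show Nat.card A ∣ 3 ^ 3 from hdvd)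
      rcases (show i ≤ 1 ∨ i = 2 ∨ i = 3 by omega) with h | rfl | rfl
      · exfalso
        rw [hiA] at hlt
        have : 3 ^ i ≤ 3 ^ 1 := Nat.pow_le_pow_right (by norm_num) h
        omega
      · -- two classes are permuted
        haveI : A.Normal := ⟨fun r hr g => hAn g r hr⟩
        let p := QuotientGroup.mk' A
        have hA1 : ∀ x, p x = 1 ↔ x ∈ A := fun x => QuotientGroup.eq_one_iff x
        have hV : Nat.card (π.ker.map p) = 3 := by
          have h1 := Subgroup.card_mul_index (A.subgroupOf π.ker)
          rw [Nat.card_congr (Subgroup.subgroupOfEquivOfLe hAk).toEquiv, hiA, hS.card] at h1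
          have e : π.ker.map p = (p.comp π.ker.subtype).range := by
            rw [MonoidHom.range_comp, Subgroup.range_subtype]
          rw [e, ← Subgroup.index_ker, show (p.comp π.ker.subtype).ker = A.subgroupOf π.ker by
            ext x; simp [p, Subgroup.mem_subgroupOf]]
          omega
        intro r hr
        obtain ⟨x4, hx4⟩ := hS.surj exists_four.choose
        have hxx : π (x4 * x4) = -1 := by rw [map_mul, hx4]; exact exists_four.choose_spec
        set k := x4 * x4 * j with hk
        have hkker : k ∈ π.ker := by rw [MonoidHom.mem_ker, hk, map_mul, hxx, hj]; decide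
        have ej : j = (x4 * x4)⁻¹ * k := by rw [hk]; group
        set t := p r with ht
        set c := p x4 with hc
        set V := π.ker.map p with hVdef
        have hcV : ∀ v ∈ V, c⁻¹ * v * c ∈ V := by
          rintro _ ⟨w, hw, rfl⟩
          refine ⟨x4⁻¹ * w * x4, by simpa using (MonoidHom.normal_ker π).conj_mem w hw x4⁻¹, by simp [hc]⟩
        have htV : t ∈ V := ⟨r, hr, rfl⟩
        have htwo : c⁻¹ * (c⁻¹ * t * c) * c = t := by
          by_cases ht1 : t = 1
          · rw [ht1]; group
          set y := c⁻¹ * t * c with hy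
          have hy1 : y ≠ 1 := fun e => ht1 (by rw [show t = c * y * c⁻¹ by rw [hy]; group, e]; group)
          by_cases hyt : y = t
          · rw [hyt, ← hy, hyt]
          have hz1 : c⁻¹ * y * c ≠ 1 := fun e => hy1 (by rw [show y = c * (c⁻¹ * y * c) * c⁻¹ by group, e]; group)
          have hzy : c⁻¹ * y * c ≠ y := fun e => hyt (by
            have := congrArg (fun v => c * v * c⁻¹) e
            simp only [hy] at this ⊢
            group at this ⊢
            exact this)
          by_contra hzt
          have : ({1, t, y, c⁻¹ * y * c} : Finset _) ⊆ (Set.toFinite (V : Set _)).toFinset := by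
            intro v hv
            simp only [Finset.mem_insert, Finset.mem_singleton] at hv
            rw [Set.Finite.mem_toFinset]
            rcases hv with rfl | rfl | rfl | rfl
            · exact one_mem V
            · exact htV
            · exact hcV t htV
            · exact hcV y (hcV t htV)
          have := Finset.card_le_card this
          rw [← Nat.card_eq_card_finite_toFinset] at this
          rw [Finset.card_insert_of_notMem (by simp [Ne.symm ht1, Ne.symm hy1, Ne.symm hz1]),
            Finset.card_insert_of_notMem (by simp [Ne.symm hyt, Ne.symm hzt]),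
            Finset.card_insert_of_notMem (by simp [Ne.symm hzy]), Finset.card_singleton] at this
          have hV' : Nat.card (V : Set (X ⧸ A)) = 3 := hV
          omega
        refine (hA1 _).mp ?_
        have hcomm : Commute (p k) t := by
          have h0 : p (k * r * k⁻¹ * r⁻¹) = 1 := (hA1 _).mpr (hzA (hS.comm k hkker r hr))
          rw [map_mul, map_mul, map_mul, map_inv, map_inv, mul_inv_eq_one, mul_inv_eq_iff_eq_mul] at h0
          exact h0
        have hjinv : p j = (p j)⁻¹ := (inv_eq_of_mul_eq_one_right (by rw [← map_mul, hjj, map_one])).symm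
        rw [map_mul, map_mul, map_mul, map_inv]
        calc p j * t * p j * t⁻¹ = p j * t * (p j)⁻¹ * t⁻¹ := by rw [← hjinv]
        _ = (c * c)⁻¹ * (p k * t * (p k)⁻¹) * (c * c) * t⁻¹ := by
              rw [ej, map_mul, map_inv, map_mul, ← hc]
              simp only [mul_inv_rev, inv_inv, mul_assoc]
        _ = (c⁻¹ * (c⁻¹ * t * c) * c) * t⁻¹ := by rw [hcomm.eq, mul_inv_cancel_right]; group
        _ = 1 := by rw [htwo, mul_inv_cancel]
      · intro r hr
        have : A = π.ker := Subgroup.eq_of_le_of_card_ge hAk (by rw [hiA, hS.card]; norm_num)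
        rw [this]
        exact mul_mem (hjker r hr) (inv_mem hr)
    -- the action is trivial modulo the centre
    have htriv : ∀ r ∈ π.ker, Commute (q j) (q r) := by
      intro r hr
      have hb := (hstep r hr)
      set b := j * r * j * r⁻¹ with hbdef
      have e : q j * q r * q j = q b * q r := by rw [← map_mul, ← map_mul, ← map_mul, hbdef]; congr 1; group
      have e2 : q r = q b * (q b * q r) := by
        calc q r = (q j * q j) * q r * (q j * q j) := by rw [hj', one_mul, mul_one]
        _ = q j * (q j * q r * q j) * q j := by group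
        _ = q j * (q b * q r) * q j := by rw [e]
        _ = q b * (q j * q r * q j) := by rw [← mul_assoc (q j), hb.2.eq]; group
        _ = q b * (q b * q r) := by rw [e]
      have hb2 : q b * q b = 1 := by rw [← mul_assoc] at e2; exact right_eq_mul.mp e2
      have hb1 : q b = 1 := by
        calc q b = q b ^ 3 * (q b * q b)⁻¹ := by group
        _ = 1 := by rw [← map_pow, hS.exp b hb.1, map_one, hb2]; simp
      rw [hb1, one_mul] at e
      calc q j * q r = q j * q r * (q j * q j) := by rw [hj', mul_one]
      _ = q r * q j := by rw [← mul_assoc, e]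
    -- and then trivial
    have hdiff : ∀ r ∈ π.ker, ∃ z ∈ zen π, j * r * j = r * z := fun r hr => by
      refine ⟨r⁻¹ * (j * r * j), (hq _).mp ?_, by group⟩
      rw [map_mul, map_mul, map_mul, map_inv, (htriv r hr).eq, mul_assoc (q r), hj', mul_one, inv_mul_cancel]
    have hjz : ∀ z ∈ zen π, j * z * j = z := by
      obtain ⟨a, ha, b, hb, hab⟩ := hS.exists_noncomm
      set ζ := a * b * a⁻¹ * b⁻¹ with hζ
      have hζz : ζ ∈ zen π := hS.comm a ha b hb
      obtain ⟨za, hza, ea⟩ := hdiff a ha
      obtain ⟨zb, hzb, eb⟩ := hdiff b hb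
      have hjζ : j * ζ * j = ζ := by
        calc j * ζ * j = (j * a * j) * (j * b * j) * (j * a * j)⁻¹ * (j * b * j)⁻¹ := by
              rw [hζ]
              simp only [mul_inv_rev, inv_eq_of_mul_eq_one_right hjj, mul_assoc]
              simp [← mul_assoc j j, hjj]
        _ = a * za * (b * zb) * (a * za)⁻¹ * (b * zb)⁻¹ := by rw [ea, eb]
        _ = a * (za * b) * (zb * za⁻¹ * a⁻¹) * zb⁻¹ * b⁻¹ := by group
        _ = a * (b * za) * (zb * za⁻¹ * a⁻¹) * zb⁻¹ * b⁻¹ := by rw [hza.2 b hb]
        _ = a * b * ((za * zb * za⁻¹) * a⁻¹) * zb⁻¹ * b⁻¹ := by group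
        _ = a * b * (zb * a⁻¹) * zb⁻¹ * b⁻¹ := by rw [show za * zb = zb * za from hzb.2 za hza.1, mul_inv_cancel_right]
        _ = a * b * (a⁻¹ * zb) * zb⁻¹ * b⁻¹ := by rw [hzb.2 a⁻¹ (inv_mem ha)]
        _ = ζ := by rw [hζ]; group
      intro z hz
      have hgen : zen π = Subgroup.zpowers ζ := by
        refine (Subgroup.eq_of_le_of_card_ge ((Subgroup.zpowers_le).mpr hζz) ?_).symm
        rw [hS.card_zen, Nat.card_zpowers]
        haveI : Fact (Nat.Prime 3) := ⟨Nat.prime_three⟩
        refine (orderOf_eq_prime (hS.exp ζ hζz.1) fun e => hab ?_).ge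
        rwa [hζ, mul_inv_eq_one, mul_inv_eq_iff_eq_mul] at e
      rw [hgen] at hz
      obtain ⟨n, rfl⟩ := hz
      have hc : Commute j ζ := by
        show j * ζ = ζ * j
        calc j * ζ = j * ζ * (j * j) := by rw [hjj, mul_one]
        _ = ζ * j := by rw [← mul_assoc, hjζ]
      show j * ζ ^ n * j = ζ ^ n
      rw [(hc.zpow_right n).eq, mul_assoc, hjj, mul_one]
    have hcent : ∀ r ∈ π.ker, j * r = r * j := by
      intro r hr
      obtain ⟨z, hz, e⟩ := hdiff r hr
      have e2 : r = r * (z * z) := by
        calc r = (j * j) * r * (j * j) := by rw [hjj, one_mul, mul_one]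
        _ = j * (j * r * j) * j := by group
        _ = j * (r * (j * j) * z) * j := by rw [e, hjj, mul_one]
        _ = (j * r * j) * (j * z * j) := by group
        _ = r * (z * z) := by rw [e, hjz z hz, mul_assoc]
      have hz1 : z = 1 := by
        calc z = z ^ 3 * (z * z)⁻¹ := by group
        _ = 1 := by rw [hS.exp z hz.1, left_eq_mul.mp e2]; simp
      rw [hz1, mul_one] at e
      calc j * r = j * r * (j * j) := by rw [hjj, mul_one]
      _ = r * j := by rw [← mul_assoc, e]
    have := hS.centralizer_le hcent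
    rw [hj] at this
    exact sl2_neg_one_ne this
  intro r hr
  refine hA ⟨mul_mem (hjker r hr) hr, ?_⟩
  have hc : Commute (q (j * r * j)) (q r) := hqc _ (hjker r hr) r hr
  simp only [map_mul] at hc ⊢
  show q j * (q j * q r * q j * q r) = q j * q r * q j * q r * q j
  calc q j * (q j * q r * q j * q r) = (q j * q j) * q r * q j * q r := by group
  _ = q r * q j * q r * (q j * q j) := by rw [hj', one_mul, mul_one]
  _ = (q r * (q j * q r * q j)) * q j := by group
  _ = q j * q r * q j * q r * q j := by rw [← hc.eq]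

end Setting

end CfsgLib.Classical.HeisSL
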