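import Cfsg.Agent.Lib.Classical.HeisSL.Basic
import Cfsg.Agent.Lib.Classical.SympMatrix

/-!
The centralizer of a transvection in `PSp₄(3)`.
-/

set_option autoImplicit false
set_option linter.style.haveILetI false

namespace CfsgLib.Classical.HeisSL

open Matrix CfsgLib.Classical

/-- The symplectic group. -/
abbrev Sp4 := symplecticGroup (Fin 2) K

/-- The projective group. -/
abbrev PSp4 := Cfsg.PSp 2 K

/-- The unipotent matrices. -/
def nMat (p : H) : Matrix (Fin 2 ⊕ Fin 2) (Fin 2 ⊕ Fin 2) K :=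
  fromBlocks !![1, -p.2.1; 0, 1] !![-p.2.2, p.1; p.1, 0] 0 !![1, 0; p.2.1, 1]

/-- The Levi matrices. -/
def lMat (A : SL2) : Matrix (Fin 2 ⊕ Fin 2) (Fin 2 ⊕ Fin 2) K :=
  fromBlocks !![1, 0; 0, A.1 0 0] !![0, 0; 0, A.1 0 1] !![0, 0; 0, A.1 1 0] !![1, 0; 0, A.1 1 1]

theorem mem_of_preserves {M : Matrix (Fin 2 ⊕ Fin 2) (Fin 2 ⊕ Fin 2) K}
    (h : ∀ u v, Cfsg.sympForm 2 K (M *ᵥ u) (M *ᵥ v) = Cfsg.sympForm 2 K u v) : M ∈ Sp4 :=
  (mem_symplecticGroup_iff_preserves 2).2 h

theorem nMat_mem (p : H) : nMat p ∈ Sp4 := mem_of_preserves fun u v => by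
  simp [sympForm_eq, nMat, mulVec, dotProduct, Fintype.sum_sum_type, Fin.sum_univ_two]
  ring

theorem det_eq (A : SL2) : A.1 0 0 * A.1 1 1 - A.1 0 1 * A.1 1 0 = 1 := by
  have := A.2
  rwa [Matrix.det_fin_two] at this

theorem lMat_mem (A : SL2) : lMat A ∈ Sp4 := mem_of_preserves fun u v => by
  simp [sympForm_eq, lMat, mulVec, dotProduct, Fintype.sum_sum_type, Fin.sum_univ_two]
  linear_combination (u (.inr 1) * v (.inl 1) - u (.inl 1) * v (.inr 1)) * det_eq A

theorem nMat_mul (p q : H) : nMat p * nMat q = nMat (mulH p q) := by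
  simp only [nMat, fromBlocks_multiply, mulH, om]
  ext i k
  rcases i with i | i <;> rcases k with k | k <;> fin_cases i <;> fin_cases k <;>
    simp [Matrix.mul_apply, Fin.sum_univ_two] <;> ring

theorem lMat_mul (A B : SL2) : lMat A * lMat B = lMat (A * B) := by
  simp only [lMat, fromBlocks_multiply]
  ext i k
  rcases i with i | i <;> rcases k with k | k <;> fin_cases i <;> fin_cases k <;>
    simp [Matrix.mul_apply, Fin.sum_univ_two]

theorem lMat_nMat (A : SL2) (p : H) : lMat A * nMat p = nMat (act A p) * lMat A := by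
  simp only [nMat, lMat, fromBlocks_multiply, act]
  have := det_eq A
  ext i k
  rcases i with i | i <;> rcases k with k | k <;> fin_cases i <;> fin_cases k <;>
    simp [Matrix.mul_apply, Fin.sum_univ_two] <;> grind

/-- The unipotent elements. -/
def nSp (p : H) : Sp4 := ⟨nMat p, nMat_mem p⟩

/-- The Levi subgroup. -/
def lSp : SL2 →* Sp4 :=
  MonoidHom.mk' (fun A => ⟨lMat A, lMat_mem A⟩) fun A B => Subtype.ext (lMat_mul A B).symm

theorem nSp_mul (p q : H) : nSp p * nSp q = nSp (mulH p q) := Subtype.ext (nMat_mul p q)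

theorem nSp_zero : nSp 0 = 1 := by
  refine Subtype.ext ?_
  show nMat 0 = 1
  ext i k
  rcases i with i | i <;> rcases k with k | k <;> fin_cases i <;> fin_cases k <;> simp [nMat]

/-- The transvection. -/
def tSp : Sp4 := nSp (0, 0, -1)

theorem center_iff (g : Sp4) : g ∈ Subgroup.center Sp4 ↔ g.1 = 1 ∨ g.1 = -1 := by
  refine ⟨sp_center_eq 2, fun h => Subgroup.mem_center_iff.2 fun B => Subtype.ext ?_⟩
  show B.1 * g.1 = g.1 * B.1
  rcases h with h | h <;> rw [h] <;> simp

theorem tSp_apply (g : Matrix (Fin 2 ⊕ Fin 2) (Fin 2 ⊕ Fin 2) K) (i k : Fin 2 ⊕ Fin 2) :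
    (g * tSp.1) i k = g i k + (if k = .inr 0 then g i (.inl 0) else 0) ∧
      (tSp.1 * g) i k = g i k + (if i = .inl 0 then g (.inr 0) k else 0) := by
  show (g * nMat (0, 0, -1)) i k = _ ∧ (nMat (0, 0, -1) * g) i k = _
  constructor <;>
    (rcases i with i | i <;> rcases k with k | k <;> fin_cases i <;> fin_cases k <;>
      simp [nMat, Matrix.mul_apply, Fintype.sum_sum_type, Fin.sum_univ_two] <;> ring)

/-- Elements commuting with the transvection up to the center commute with it. -/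
theorem comm_of_mk {g : Sp4} (h : QuotientGroup.mk' (Subgroup.center Sp4) g *
    QuotientGroup.mk' _ tSp = QuotientGroup.mk' _ tSp * QuotientGroup.mk' _ g) : g * tSp = tSp * g := by
  rw [← map_mul, ← map_mul, QuotientGroup.mk'_eq_mk'] at h
  obtain ⟨z, hz, e⟩ := h
  rcases (center_iff z).1 hz with h1 | h1
  · rwa [show z = 1 from Subtype.ext h1, mul_one] at e
  · exfalso
    have e' : (g * tSp).1 * (-1) = (tSp * g).1 := by rw [← h1]; exact congrArg Subtype.val e
    rw [mul_neg, mul_one] at e'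
    -- conjugate matrices have equal traces
    have ht : Matrix.trace (tSp.1) = -Matrix.trace (tSp.1) := by
      have hg : ((g⁻¹ : Sp4) : Matrix (Fin 2 ⊕ Fin 2) (Fin 2 ⊕ Fin 2) K) * g.1 = 1 :=
        congrArg Subtype.val (inv_mul_cancel g)
      have hg' : g.1 * ((g⁻¹ : Sp4) : Matrix (Fin 2 ⊕ Fin 2) (Fin 2 ⊕ Fin 2) K) = 1 :=
        congrArg Subtype.val (mul_inv_cancel g)
      calc Matrix.trace tSp.1 = Matrix.trace (tSp.1 * g.1 * (g⁻¹ : Sp4).1) := by
            rw [mul_assoc, hg', mul_one]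
      _ = Matrix.trace (-(g.1 * tSp.1) * (g⁻¹ : Sp4).1) := by
            rw [show tSp.1 * g.1 = (tSp * g).1 from rfl, ← e']; rfl
      _ = -Matrix.trace (g.1 * tSp.1 * (g⁻¹ : Sp4).1) := by rw [neg_mul, Matrix.trace_neg]
      _ = -Matrix.trace tSp.1 := by rw [Matrix.trace_mul_cycle, hg, one_mul]
    have h4 : Matrix.trace (tSp.1) = (1 : K) := by
      simp [tSp, nSp, nMat, Matrix.trace, Fintype.sum_sum_type, Fin.sum_univ_two]
      decide
    rw [h4] at ht
    revert ht; decide

/-- Decomposition of the centralizer. -/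
theorem decomp {g : Sp4} (h : g * tSp = tSp * g) : ∃ p A,
    g.1 = nMat p * lMat A ∨ g.1 = -(nMat p * lMat A) := by
  have hm : g.1 * tSp.1 = tSp.1 * g.1 := congrArg Subtype.val h
  have key : ∀ i k, (if k = Sum.inr 0 then g.1 i (.inl 0) else 0) =
      if i = Sum.inl 0 then g.1 (.inr 0) k else 0 := fun i k => by
    have e := congrFun (congrFun hm i) k
    rw [(tSp_apply g.1 i k).1, (tSp_apply g.1 i k).2] at e
    exact add_left_cancel e
  -- the first column is a multiple of the first vector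
  have c1 := key (.inl 1) (.inr 0)
  have c2 := key (.inr 0) (.inr 0)
  have c3 := key (.inr 1) (.inr 0)
  have c0 := key (.inl 0) (.inr 0)
  have r1 := key (.inl 0) (.inl 1)
  have r3 := key (.inl 0) (.inr 1)
  have r0 := key (.inl 0) (.inl 0)
  simp at c0 c1 c2 c3 r0 r1 r3
  obtain ⟨lam, hlam⟩ : ∃ lam, g.1 (.inl 0) (.inl 0) = lam := ⟨_, rfl⟩
  have hω : ∀ u v, Cfsg.sympForm 2 K (g.1 *ᵥ u) (g.1 *ᵥ v) = Cfsg.sympForm 2 K u v :=
    (mem_symplecticGroup_iff_preserves 2).1 g.2
  have hab := hω (Pi.single (.inl 0) 1) (Pi.single (.inr 0) 1)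
  simp [sympForm_eq, Fin.sum_univ_two, c1, c2, c3, ← c0, hlam, Pi.single_apply] at hab
  -- normalize
  obtain ⟨μ, hμ1, hμ⟩ : ∃ μ : K, μ * lam = 1 ∧ (μ = 1 ∨ μ = -1) := by
    have : lam * lam = 1 := by linear_combination hab
    refine ⟨lam, this, ?_⟩
    clear hab hlam; revert lam; decide
  set h' := μ • g.1 with hh'
  have hμμ : μ * μ = 1 := by rcases hμ with rfl | rfl <;> simp
  let p : H := (h' (.inl 1) (.inr 0), h' (.inr 1) (.inr 0), -h' (.inl 0) (.inr 0))
  set m := nMat (invH p) * h' with hmdef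
  have hmω : ∀ u v, Cfsg.sympForm 2 K (m *ᵥ u) (m *ᵥ v) = Cfsg.sympForm 2 K u v := fun u v => by
    rw [hmdef, ← mulVec_mulVec, ← mulVec_mulVec, (mem_symplecticGroup_iff_preserves 2).1 (nMat_mem _),
      hh', smul_mulVec, smul_mulVec]
    simp only [← sympBil_apply, map_smul, LinearMap.smul_apply, smul_eq_mul]
    rw [sympBil_apply, sympBil_apply, hω, ← mul_assoc, hμμ, one_mul]
  have hc1 : ∀ i, m i (.inl 0) = if i = .inl 0 then 1 else 0 := by
    intro i
    rcases i with i | i <;> fin_cases i <;>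
      simp [hmdef, hh', nMat, invH, p, Matrix.mul_apply, Fintype.sum_sum_type, Fin.sum_univ_two, c1, c2, c3, hlam, hμ1]
  have hc2 : ∀ i, m i (.inr 0) = if i = .inr 0 then 1 else 0 := by
    intro i
    rcases i with i | i <;> fin_cases i <;>
      simp [hmdef, hh', nMat, invH, p, Matrix.mul_apply, Fintype.sum_sum_type, Fin.sum_univ_two, ← c0, hlam, hμ1] <;>
      refine Or.inr ?_ <;>
      first
      | linear_combination (-(g.1 (.inl 0) (.inr 0))) * hμ1
      | linear_combination (-(g.1 (.inl 1) (.inr 0))) * hμ1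
      | linear_combination (-(g.1 (.inr 1) (.inr 0))) * hμ1
  have e1 := hmω (Pi.single (.inl 1) 1) (Pi.single (.inl 0) 1)
  have e2 := hmω (Pi.single (.inr 1) 1) (Pi.single (.inl 0) 1)
  have e3 := hmω (Pi.single (.inl 1) 1) (Pi.single (.inr 0) 1)
  have e4 := hmω (Pi.single (.inr 1) 1) (Pi.single (.inr 0) 1)
  have e5 := hmω (Pi.single (.inl 1) 1) (Pi.single (.inr 1) 1)
  simp [sympForm_eq, Fin.sum_univ_two, hc1, hc2, Pi.single_apply] at e1 e2 e3 e4
  simp [sympForm_eq, Fin.sum_univ_two, hc1, hc2, Pi.single_apply, e1, e2, e3, e4] at e5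
  let A : SL2 := ⟨!![m (.inl 1) (.inl 1), m (.inl 1) (.inr 1); m (.inr 1) (.inl 1), m (.inr 1) (.inr 1)], by
    rw [Matrix.det_fin_two]
    simp
    linear_combination -e5⟩
  have hm' : m = lMat A := by
    ext i k
    rcases i with i | i <;> rcases k with k | k <;> fin_cases i <;> fin_cases k <;>
      simp [lMat, A, hc1, hc2, e1, e2, e3, e4]
  have hh : h' = nMat p * lMat A := by
    rw [← hm', hmdef, ← mul_assoc, nMat_mul, show mulH p (invH p) = 0 by simp [mulH, invH, om]; ring,
      show nMat 0 = 1 from congrArg Subtype.val nSp_zero, one_mul]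
  refine ⟨p, A, ?_⟩
  rw [← hh, hh']
  rcases hμ with rfl | rfl <;> simp

/-- The image in the projective group. -/
def cPSp : PSp4 := QuotientGroup.mk' _ tSp

theorem nl_apply (p : H) (A : SL2) : (nMat p * lMat A) (.inl 0) (.inl 0) = 1 := by
  simp [nMat, lMat, Matrix.mul_apply, Fintype.sum_sum_type, Fin.sum_univ_two]

theorem exists_model : Nonempty (Param (Subgroup.centralizer ({cPSp} : Set PSp4))) := by
  let q := QuotientGroup.mk' (Subgroup.center Sp4)
  have ht : ∀ A, lSp A * tSp = tSp * lSp A := fun A => Subtype.ext (by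
    show lMat A * nMat (0, 0, -1) = nMat (0, 0, -1) * lMat A
    rw [lMat_nMat]; simp [act])
  have htn : ∀ p, nSp p * tSp = tSp * nSp p := fun p => by
    rw [tSp, nSp_mul, nSp_mul]; congr 1; simp [mulH, om]; ring
  have hmem : ∀ g, g * tSp = tSp * g → q g ∈ Subgroup.centralizer ({cPSp} : Set PSp4) := fun g hg => by
    rw [Subgroup.mem_centralizer_singleton_iff]
    show q g * q tSp = q tSp * q g
    rw [← map_mul, ← map_mul, hg]
  let φ : H → Subgroup.centralizer ({cPSp} : Set PSp4) := fun p => ⟨q (nSp p), hmem _ (htn p)⟩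
  let s : SL2 →* Subgroup.centralizer ({cPSp} : Set PSp4) :=
    MonoidHom.mk' (fun A => ⟨q (lSp A), hmem _ (ht A)⟩) fun A B => Subtype.ext (by simp)
  refine ⟨⟨φ, s, fun p r => Subtype.ext ?_, fun A p => ?_, ⟨?_, ?_⟩⟩⟩
  · show q (nSp p) * q (nSp r) = q (nSp (mulH p r))
    rw [← map_mul, nSp_mul]
  · rw [mul_inv_eq_iff_eq_mul]
    refine Subtype.ext ?_
    show q (lSp A) * q (nSp p) = q (nSp (act A p)) * q (lSp A)
    rw [← map_mul, ← map_mul]
    exact congrArg q (Subtype.ext (lMat_nMat A p))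
  · rintro ⟨p, A⟩ ⟨r, B⟩ e
    have e' : q (nSp p * lSp A) = q (nSp r * lSp B) := by
      rw [map_mul, map_mul]; exact congrArg Subtype.val e
    rw [QuotientGroup.mk'_eq_mk'] at e'
    obtain ⟨z, hz, e'⟩ := e'
    have e'' : nMat p * lMat A * z.1 = nMat r * lMat B := congrArg Subtype.val e'
    rcases (center_iff z).1 hz with h1 | h1
    swap
    · exfalso
      rw [h1, mul_neg, mul_one] at e''
      have := congrFun (congrFun e'' (.inl 0)) (.inl 0)
      rw [Matrix.neg_apply, nl_apply, nl_apply] at this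
      revert this; decide
    rw [h1, mul_one] at e''
    have a := fun i k => congrFun (congrFun e'' i) k
    have a1 := a (.inl 1) (.inr 0)
    have a2 := a (.inr 1) (.inr 0)
    have a3 := a (.inl 0) (.inr 0)
    simp [nMat, lMat, Matrix.mul_apply, Fintype.sum_sum_type, Fin.sum_univ_two] at a1 a2 a3
    have hpr : p = r := Prod.ext a1 (Prod.ext a2 a3)
    subst hpr
    have hAB : lMat A = lMat B := by
      have := congrArg (fun M => nMat (invH p) * M) e''
      simpa [← mul_assoc, nMat_mul, show mulH (invH p) p = 0 by simp [mulH, invH, om]; ring,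
        show nMat 0 = 1 from congrArg Subtype.val nSp_zero] using this
    refine Prod.ext rfl (Subtype.ext ?_)
    ext i k
    fin_cases i <;> fin_cases k
    · simpa [lMat] using congrFun (congrFun hAB (.inl 1)) (.inl 1)
    · simpa [lMat] using congrFun (congrFun hAB (.inl 1)) (.inr 1)
    · simpa [lMat] using congrFun (congrFun hAB (.inr 1)) (.inl 1)
    · simpa [lMat] using congrFun (congrFun hAB (.inr 1)) (.inr 1)
  · rintro ⟨x, hx⟩
    obtain ⟨g, rfl⟩ := QuotientGroup.mk'_surjective _ x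
    rw [Subgroup.mem_centralizer_singleton_iff] at hx
    obtain ⟨p, A, hpA⟩ := decomp (comm_of_mk hx)
    refine ⟨(p, A), Subtype.ext ?_⟩
    show q (nSp p) * q (lSp A) = q g
    rw [← map_mul, QuotientGroup.mk'_eq_mk']
    rcases hpA with h | h
    · exact ⟨1, one_mem _, by rw [mul_one]; exact Subtype.ext h.symm⟩
    · refine ⟨⟨-1, SymplecticGroup.neg_mem (one_mem _)⟩, (center_iff _).2 (Or.inr rfl), Subtype.ext ?_⟩
      show nMat p * lMat A * -1 = g.1
      rw [mul_neg, mul_one, h]

theorem card_center : Nat.card (Subgroup.center Sp4) = 2 := by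
  rw [Nat.card_eq_two_iff]
  refine ⟨⟨1, one_mem _⟩, ⟨⟨-1, SymplecticGroup.neg_mem (one_mem _)⟩, (center_iff _).2 (Or.inr rfl)⟩, ?_, ?_⟩
  · intro e
    have := congrFun (congrFun (congrArg (fun v : Subgroup.center Sp4 => v.1.1) e) (.inl 0)) (.inl 0)
    simp at this
    revert this; decide
  · ext v
    simp only [Set.mem_insert_iff, Set.mem_singleton_iff, Set.mem_univ, iff_true]
    rcases (center_iff v.1).1 v.2 with h | h
    · exact Or.inl (Subtype.ext (Subtype.ext h))
    · exact Or.inr (Subtype.ext (Subtype.ext h))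

theorem card_psp : Nat.card PSp4 = 25920 := by
  have h := Subgroup.card_eq_card_quotient_mul_card_subgroup (Subgroup.center Sp4)
  rw [card_center, card_symplecticGroup, ZMod.card] at h
  norm_num [Finset.prod_range_succ] at h
  show Nat.card (Sp4 ⧸ Subgroup.center Sp4) = _
  omega

/-- The transvection is central in a Sylow subgroup. -/
theorem exists_central : ∃ (c : PSp4) (S : Sylow 3 PSp4), orderOf c = 3 ∧ c ∈ (S : Subgroup PSp4) ∧
    c ∈ Subgroup.centralizer ((S : Subgroup PSp4) : Set PSp4) ∧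
      Nonempty (Param (Subgroup.centralizer ({c} : Set PSp4))) := by
  classical
  haveI : Fact (Nat.Prime 3) := ⟨Nat.prime_three⟩
  obtain ⟨P⟩ := exists_model
  set Y := Subgroup.centralizer ({cPSp} : Set PSp4) with hY
  have hord : orderOf cPSp = 3 := by
    refine orderOf_eq_prime ?_ fun e => ?_
    · rw [cPSp, ← map_pow]
      have : tSp ^ 3 = 1 := by
        rw [pow_three, tSp, nSp_mul, nSp_mul, ← nSp_zero]; congr 1
      rw [this, map_one]
    · rw [cPSp, ← MonoidHom.mem_ker, QuotientGroup.ker_mk', center_iff] at e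
      rcases e with e | e <;> have := congrFun (congrFun e (.inl 0)) (.inr 0) <;>
        simp [tSp, nSp, nMat] at this
  have hYcard : Nat.card Y = 648 := by
    rw [← Nat.card_congr (Equiv.ofBijective _ P.bij), Nat.card_prod, sl2_card]
    simp
  let c0 : Y := ⟨cPSp, Subgroup.mem_centralizer_singleton_iff.mpr rfl⟩
  obtain ⟨T⟩ := (inferInstance : Nonempty (Sylow 3 Y))
  have hcT : c0 ∈ (T : Subgroup Y) := by
    have hcen : c0 ∈ Subgroup.center Y := Subgroup.mem_center_iff.mpr fun y =>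
      Subtype.ext (Subgroup.mem_centralizer_singleton_iff.mp y.2)
    haveI : (Subgroup.zpowers c0).Normal := ⟨fun n hn g => by
      rw [Subgroup.mem_center_iff.mp ((Subgroup.zpowers_le.mpr hcen) hn) g, mul_inv_cancel_right]; exact hn⟩
    have h3 : IsPGroup 3 (Subgroup.zpowers c0) := IsPGroup.of_card (n := 1) (by
      rw [Nat.card_zpowers, ← Subgroup.orderOf_coe, show (c0 : PSp4) = cPSp from rfl, hord]; norm_num)
    exact (IsPGroup.le_sylow_of_normal h3 T) (Subgroup.mem_zpowers c0)
  have hTcard : Nat.card ((T : Subgroup Y).map Y.subtype) = 3 ^ (Nat.card PSp4).factorization 3 := by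
    rw [Nat.card_congr (Subgroup.equivMapOfInjective _ Y.subtype Y.subtype_injective).symm.toEquiv,
      Sylow.card_eq_multiplicity, hYcard, card_psp]
    rw [show (648 : ℕ) = 3 ^ 4 * 8 by norm_num, show (25920 : ℕ) = 3 ^ 4 * 320 by norm_num,
      Nat.factorization_mul (by norm_num) (by norm_num), Nat.factorization_mul (by norm_num) (by norm_num),
      Finsupp.add_apply, Finsupp.add_apply, Nat.factorization_eq_zero_of_not_dvd (show ¬ 3 ∣ 8 by norm_num),
      Nat.factorization_eq_zero_of_not_dvd (show ¬ 3 ∣ 320 by norm_num)]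
  refine ⟨cPSp, Sylow.ofCard _ hTcard, hord, ?_, ?_, ⟨P⟩⟩
  · exact ⟨c0, hcT, rfl⟩
  · intro x hx
    obtain ⟨y, -, rfl⟩ := hx
    exact Subgroup.mem_centralizer_singleton_iff.mp y.2

end CfsgLib.Classical.HeisSL
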