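import Cfsg.Agent.Lib.Classical.HeisSL.Basic

/-!
Splitting of central extensions of `SL₂(3)` by a group of order three.
-/

set_option autoImplicit false
set_option linter.style.haveILetI false

namespace CfsgLib.Classical.HeisSL

theorem exists_section {C : Type*} [Group C] [Finite C] (μ : C →* SL2) (hs : Function.Surjective μ)
    (hk : μ.ker ≤ Subgroup.center C) (hk3 : ∀ z ∈ μ.ker, z ^ 3 = 1) (hcard : Nat.card μ.ker = 3)
    {d : C} (hd : d ^ 3 = 1) (hd1 : μ d ≠ 1) :
    ∃ s : SL2 →* C, ∀ A, μ (s A) = A := by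
  classical
  haveI : Fact (Nat.Prime 2) := ⟨Nat.prime_two⟩
  have hC : Nat.card C = 72 := by
    rw [← Subgroup.card_mul_index μ.ker, Subgroup.index_ker, MonoidHom.range_eq_top.mpr hs,
      Subgroup.card_top, hcard, sl2_card]
  obtain ⟨P, hP⟩ := Sylow.exists_subgroup_card_pow_prime (G := C) 2 (n := 3) (by rw [hC]; norm_num)
  have hP8 : ∀ p ∈ P, p ^ 8 = 1 := fun p hp => by
    have := pow_card_eq_one' (G := P) (x := ⟨p, hp⟩)
    rw [hP] at this
    exact congrArg Subtype.val this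
  have hPz : ∀ p ∈ P, μ p = 1 → p = 1 := fun p hp h => by
    have e3 := hk3 p h
    have e8 := hP8 p hp
    calc p = (p ^ 3) ^ 3 * (p ^ 8)⁻¹ := by rw [← pow_mul]; group
    _ = 1 := by rw [e3, e8]; simp
  have hP4 : ∀ A : SL2, A ^ 4 = 1 → ∃ p ∈ P, μ p = A := by
    let f : P → {A : SL2 // A ^ 4 = 1} := fun p =>
      ⟨μ p, sl2_pow_eight _ (by rw [← map_pow, hP8 p p.2, map_one])⟩
    have hf : Function.Injective f := fun p q e => by
      have e' : μ (p : C) = μ q := congrArg Subtype.val e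
      refine Subtype.ext (inv_mul_eq_one.mp (hPz _ (mul_mem (inv_mem p.2) q.2) ?_))
      rw [map_mul, map_inv, e', inv_mul_cancel]
    have := ((Nat.bijective_iff_injective_and_card f).mpr ⟨hf, by rw [hP, sl2_card_four]; norm_num⟩).2
    intro A hA
    obtain ⟨p, hp⟩ := this ⟨A, hA⟩
    exact ⟨p, p.2, congrArg Subtype.val hp⟩
  have hPn : P.Normal := by
    refine ⟨fun p hp k => ?_⟩
    have e8 : (k * p * k⁻¹) ^ 8 = 1 := by rw [conj_pow, hP8 p hp]; group
    obtain ⟨p', hp', e⟩ := hP4 (μ (k * p * k⁻¹)) (sl2_pow_eight _ (by rw [← map_pow, e8, map_one]))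
    obtain ⟨z, hz⟩ : ∃ z, z = p'⁻¹ * (k * p * k⁻¹) := ⟨_, rfl⟩
    have hzk : z ∈ μ.ker := by rw [MonoidHom.mem_ker, hz, map_mul, map_inv, e, inv_mul_cancel]
    have hcomm : Commute p' z := Subgroup.mem_center_iff.mp (hk hzk) p'
    have ez : k * p * k⁻¹ = p' * z := by rw [hz]; group
    have z8 : z ^ 8 = 1 := by
      have := hcomm.mul_pow 8
      rwa [← ez, e8, hP8 p' hp', one_mul, eq_comm] at this
    have z1 : z = 1 := by
      calc z = (z ^ 3) ^ 3 * (z ^ 8)⁻¹ := by rw [← pow_mul]; group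
      _ = 1 := by rw [hk3 z hzk, z8]; simp
    rw [ez, z1, mul_one]; exact hp'
  set Kd := P ⊔ Subgroup.zpowers d with hKd
  have hinj : ∀ k ∈ Kd, μ k = 1 → k = 1 := by
    intro k hk hk1
    obtain ⟨p, hp, q, hq, rfl⟩ := Subgroup.mem_sup_of_normal_left.mp hk
    have q3 : q ^ 3 = 1 := by
      obtain ⟨n, rfl⟩ := hq
      show (d ^ n) ^ 3 = 1
      rw [← zpow_natCast, ← zpow_mul, mul_comm, zpow_mul, zpow_natCast, hd, one_zpow]
    have hμ : μ p = (μ q)⁻¹ := by rw [map_mul] at hk1; exact eq_inv_of_mul_eq_one_left hk1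
    have a3 : (μ p) ^ 3 = 1 := by rw [hμ, inv_pow, ← map_pow, q3, map_one, inv_one]
    have a8 : (μ p) ^ 8 = 1 := by rw [← map_pow, hP8 p hp, map_one]
    have a1 : μ p = 1 := by
      calc μ p = ((μ p) ^ 3) ^ 3 * ((μ p) ^ 8)⁻¹ := by rw [← pow_mul]; group
      _ = 1 := by rw [a3, a8]; simp
    rw [hPz p hp a1, one_mul]
    rw [hPz p hp a1, one_mul] at hk1
    -- an element of order three in the kernel and in the powers
    obtain ⟨n, rfl⟩ := hq
    have ho : orderOf (μ d) = 3 := by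
      haveI : Fact (Nat.Prime 3) := ⟨Nat.prime_three⟩
      exact orderOf_eq_prime (by rw [← map_pow, hd, map_one]) hd1
    have hn : (3 : ℤ) ∣ n := by
      have : μ d ^ n = 1 := by rw [← map_zpow]; exact hk1
      rw [← orderOf_dvd_iff_zpow_eq_one, ho] at this
      exact this
    obtain ⟨m, rfl⟩ := hn
    show d ^ (3 * m) = 1
    rw [zpow_mul, show d ^ (3 : ℤ) = d ^ 3 from zpow_natCast d 3, hd, one_zpow]
  have hsurj : Kd.map μ = ⊤ := by
    have h8 : 8 ∣ Nat.card (Kd.map μ) := by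
      have hPi : Function.Injective (μ.comp P.subtype) :=
        (injective_iff_map_eq_one _).mpr fun p hp => Subtype.ext (hPz p p.2 hp)
      have : Nat.card (P.map μ) = 8 := by
        rw [show P.map μ = (μ.comp P.subtype).range by rw [MonoidHom.range_comp, Subgroup.range_subtype], ← Nat.card_congr (MonoidHom.ofInjective hPi).toEquiv, hP]
        norm_num
      rw [← this]
      exact Subgroup.card_dvd_of_le (Subgroup.map_mono le_sup_left)
    have h3 : 3 ∣ Nat.card (Kd.map μ) := by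
      haveI : Fact (Nat.Prime 3) := ⟨Nat.prime_three⟩
      have hmem : μ d ∈ Kd.map μ := ⟨d, Subgroup.mem_sup_right (Subgroup.mem_zpowers d), rfl⟩
      have := Subgroup.orderOf_dvd_natCard _ hmem
      rwa [orderOf_eq_prime (by rw [← map_pow, hd, map_one]) hd1] at this
    refine Subgroup.eq_top_of_card_eq _ (Nat.dvd_antisymm ?_ ?_)
    · exact Subgroup.card_subgroup_dvd_card _
    · rw [sl2_card]
      exact Nat.Coprime.mul_dvd_of_dvd_of_dvd (by norm_num : Nat.Coprime 8 3) h8 h3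
  have hb : Function.Bijective (μ.comp Kd.subtype) := by
    refine ⟨(injective_iff_map_eq_one _).mpr fun k hk => Subtype.ext (hinj k k.2 hk), fun A => ?_⟩
    obtain ⟨k, hk, e⟩ : A ∈ Kd.map μ := by rw [hsurj]; trivial
    exact ⟨⟨k, hk⟩, e⟩
  exact ⟨Kd.subtype.comp (MulEquiv.ofBijective _ hb).symm.toMonoidHom,
    fun A => (MulEquiv.ofBijective _ hb).apply_symm_apply A⟩

end CfsgLib.Classical.HeisSL
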