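import Cfsg.Agent.Lib.Classical.HeisSL.Coordinates
import Cfsg.Agent.Lib.Classical.HeisSL.Split
import Cfsg.Agent.Lib.Chevalley.SL2

/-!
A group of shape `3^{1+2}:SL₂(3)` with an elementary abelian subgroup of order 27 is parametrised.
-/

set_option autoImplicit false
set_option linter.style.haveILetI false

namespace CfsgLib.Classical.HeisSL

open Matrix CfsgLib.Chevalley.SL2

theorem sl2_hom_trivial {M : Type*} [Monoid M] (δ : SL2 →* M) (h : ∀ A, δ A ^ 3 = δ A) (A : SL2) : δ A = 1 := by
  have h3 : ∀ u : SL2, u ^ 3 = 1 → δ u = 1 := fun u hu => by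
    rw [← h u, ← map_pow, hu, map_one]
  have hg := exists_normal_form A
  induction hg using Submonoid.closure_induction with
  | mem x hx =>
    rcases hx with (⟨t, rfl⟩ | ⟨c, rfl⟩) | rfl
    · exact h3 _ (by revert t; decide +kernel)
    · have e : dh c = 1 ∨ dh c = wn * wn := by revert c; decide +kernel
      rcases e with e | e <;> rw [e]
      · exact map_one δ
      · obtain ⟨p, q, hp, hq, e2⟩ : ∃ p q : SL2, p ^ 3 = 1 ∧ q ^ 3 = 1 ∧ wn = p * q * p := by decide +kernel
        rw [e2]; simp [h3 p hp, h3 q hq]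
    · obtain ⟨p, q, hp, hq, e2⟩ : ∃ p q : SL2, p ^ 3 = 1 ∧ q ^ 3 = 1 ∧ wn = p * q * p := by decide +kernel
      rw [e2]; simp [h3 p hp, h3 q hq]
  | one => exact map_one δ
  | mul x y _ _ hx hy => rw [map_mul, hx, hy, one_mul]

variable {X : Type*} [Group X] [Finite X]

/-- The parametrisation. -/
theorem exists_param {π : X →* SL2} (hS : Setting π)
    (hE : ∃ E : Subgroup X, IsMulCommutative E ∧ (∀ a ∈ E, a ^ 3 = 1) ∧ Nat.card E = 27) :
    Nonempty (Param X) := by
  classical
  obtain ⟨j, hjj, hj⟩ := hS.exists_inv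
  obtain ⟨φ, hmul, hinj, hran, hjφ⟩ := hS.exists_phi hjj hj
  have hker : ∀ x, π x = 1 ↔ ∃ p, φ p = x := fun x => by
    rw [← MonoidHom.mem_ker, ← SetLike.mem_coe, ← hran]; rfl
  have hφk : ∀ p, π (φ p) = 1 := fun p => (hker _).mpr ⟨p, rfl⟩
  have hφ0 : φ 0 = 1 := by
    have h := hmul 0 0
    rw [show mulH (0 : H) 0 = 0 by simp [mulH, om]] at h
    exact mul_eq_left.mp h
  have hφi : ∀ p, (φ p)⁻¹ = φ (invH p) := fun p => by
    apply inv_eq_of_mul_eq_one_right
    rw [hmul, show mulH p (invH p) = 0 by simp [mulH, invH, om]; ring, hφ0]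
  -- the centralizer of the involution
  set C := Subgroup.centralizer ({j} : Set X) with hC
  have hCmem : ∀ c, c ∈ C ↔ j * c = c * j := fun c => by rw [hC, Subgroup.mem_centralizer_singleton_iff, eq_comm]
  let π' := π.comp C.subtype
  have hneg : ∀ t : K, -t = t → t = 0 := by decide
  have hπ's : Function.Surjective π' := fun A => by
    obtain ⟨g, rfl⟩ := hS.surj A
    obtain ⟨⟨x, y, z⟩, hp⟩ := (hker (j * (g * j * g⁻¹))).mp (by
      simp only [map_mul, map_inv, hj]
      rw [mul_assoc (π g), ← mul_assoc, ← mul_assoc, ← sl2_neg_one_comm (π g), mul_assoc (π g)]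
      simp)
    set r := φ (x, y, z) with hr
    have hinv : j * r * j = r⁻¹ := by
      have hji : j⁻¹ = j := inv_eq_of_mul_eq_one_right hjj
      rw [hp]; simp only [_root_.mul_inv_rev, inv_inv, hji, mul_assoc]
      simp [← mul_assoc j j, hjj]
    have hz : z = 0 := by
      rw [hr, hjφ, hφi] at hinv
      exact hneg z (congrArg (fun q : H => q.2.2) (hinj hinv)).symm
    subst hz
    refine ⟨⟨r⁻¹ * g, (hCmem _).mpr ?_⟩, by show π (r⁻¹ * g) = _; rw [map_mul, map_inv, hφk, inv_one, one_mul]⟩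
    have e : g * j = j * r * g := by rw [hp, ← mul_assoc, hjj, one_mul]; group
    calc j * (r⁻¹ * g) = j * (j * r * j) * g := by rw [hinv, mul_assoc]
    _ = r * j * g := by rw [← mul_assoc, ← mul_assoc, hjj, one_mul]
    _ = r⁻¹ * r⁻¹ * j * g := by
        rw [show r⁻¹ * r⁻¹ = r ^ 3 * (r⁻¹ * r⁻¹) by rw [hS.exp r (hφk _), one_mul]]; group
    _ = r⁻¹ * (j * r * g) := by rw [← hinv]; simp only [mul_assoc]; simp [← mul_assoc j j, hjj]
    _ = r⁻¹ * g * j := by rw [← e, mul_assoc]
  -- the inverted elements are permuted linearly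
  have hperm : ∀ c ∈ C, ∀ x y : K, ∃ v w : K, c * φ (x, y, 0) * c⁻¹ = φ (v, w, 0) := by
    intro c hc x y
    obtain ⟨⟨v, w, z⟩, hp⟩ := (hker (c * φ (x, y, 0) * c⁻¹)).mp (by simp [hφk])
    refine ⟨v, w, ?_⟩
    have hj1 : j * (c * φ (x, y, 0) * c⁻¹) * j = (c * φ (x, y, 0) * c⁻¹)⁻¹ := by
      have e1 : j * c = c * j := (hCmem c).mp hc
      have e2 : c⁻¹ * j = j * c⁻¹ := by rw [eq_mul_inv_iff_mul_eq, mul_assoc, e1, inv_mul_cancel_left]
      calc j * (c * φ (x, y, 0) * c⁻¹) * j = (j * c) * φ (x, y, 0) * (c⁻¹ * j) := by group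
      _ = c * (j * φ (x, y, 0) * j) * c⁻¹ := by rw [e1, e2]; group
      _ = _ := by
          rw [hjφ, show ((-x, -y, 0) : H) = invH (x, y, 0) by simp [invH], ← hφi]; group
    rw [← hp, hjφ, hφi] at hj1
    have := congrArg (fun q : H => q.2.2) (hinj hj1)
    simp only [invH] at this
    rw [← hp, hneg z this.symm]
  choose fv fw hfw using hperm
  -- the matrices
  let mat : C → Matrix (Fin 2) (Fin 2) K := fun c =>
    !![fv c c.2 1 0, fv c c.2 0 1; fw c c.2 1 0, fw c c.2 0 1]
  let det : C → K := fun c => (mat c).det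
  have hgen : ∀ x y z : K, φ (x, y, z) = φ (x, 0, 0) * φ (0, y, 0) * φ (0, 0, z + x * y) := fun x y z => by
    rw [hmul, hmul]; congr 1; simp [mulH, om]
  have hlin : ∀ (c : C) (x y z : K), (c : X) * φ (x, y, z) * (c : X)⁻¹ =
      φ (mat c 0 0 * x + mat c 0 1 * y, mat c 1 0 * x + mat c 1 1 * y, det c * z) := by
    intro c x y z
    let h : X → X := fun v => (c : X) * v * (c : X)⁻¹
    have hh : ∀ v w, h (v * w) = h v * h w := fun v w => by simp only [h]; group
    have e0 : ∀ v w u : K, φ (v, w, u) * φ (v, w, u) = φ (v + v, w + w, u + u) := fun v w u => by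
      rw [hmul]; congr 1; simp [mulH, om, mul_comm]
    have three : ∀ x : K, x = 0 ∨ x = 1 ∨ x = 1 + 1 := by decide
    have hx : ∀ x : K, h (φ (x, 0, 0)) = φ (mat c 0 0 * x, mat c 1 0 * x, 0) := fun x => by
      rcases three x with rfl | rfl | rfl
      · simp [h, show ((0, 0, 0) : H) = 0 from rfl, hφ0]
      · simp [h, hfw c c.2 1 0, mat]
      · have : φ (1 + 1, 0, 0) = φ (1, 0, 0) * φ (1, 0, 0) := by rw [e0]; simp
        rw [this, hh]
        simp [h, hfw c c.2 1 0, mat, e0, mul_add]
    have hy : ∀ y : K, h (φ (0, y, 0)) = φ (mat c 0 1 * y, mat c 1 1 * y, 0) := fun y => by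
      rcases three y with rfl | rfl | rfl
      · simp [h, show ((0, 0, 0) : H) = 0 from rfl, hφ0]
      · simp [h, hfw c c.2 0 1, mat]
      · have : φ (0, 1 + 1, 0) = φ (0, 1, 0) * φ (0, 1, 0) := by rw [e0]; simp
        rw [this, hh]
        simp [h, hfw c c.2 0 1, mat, e0, mul_add]
    have h1 : φ (0, 0, 1) = φ (1, 0, 0) * φ (0, 1, 0) * φ (-1, 0, 0) * φ (0, -1, 0) := by
      rw [hmul, hmul, hmul]; congr 1
    have hz1 : h (φ (0, 0, 1)) = φ (0, 0, det c) := by
      rw [h1, hh, hh, hh, hx, hy, hx, hy, hmul, hmul, hmul]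
      congr 1
      have hthree : (3 : K) = 0 := by decide
      simp only [mulH, om, det, Matrix.det_fin_two]
      refine Prod.ext (by ring) (Prod.ext (by ring) ?_)
      linear_combination (-(mat c 0 0 * mat c 1 1 - mat c 0 1 * mat c 1 0)) * hthree
    have hz : ∀ z : K, h (φ (0, 0, z)) = φ (0, 0, det c * z) := fun z => by
      rcases three z with rfl | rfl | rfl
      · simp [h, show ((0, 0, 0) : H) = 0 from rfl, hφ0]
      · rw [hz1, mul_one]
      · have : φ (0, 0, 1 + 1) = φ (0, 0, 1) * φ (0, 0, 1) := by rw [e0]; simp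
        rw [this, hh, hz1, e0]; simp [mul_add]
    show h (φ (x, y, z)) = _
    rw [hgen, hh, hh, hx, hy, hz, hmul, hmul]
    congr 1
    simp only [mulH, om, det, Matrix.det_fin_two]
    refine Prod.ext (by ring) (Prod.ext (by ring) ?_)
    ring
  have hmatmul : ∀ c d : C, mat (c * d) = mat c * mat d := by
    intro c d
    have e : ∀ x y : K, φ (mat (c * d) 0 0 * x + mat (c * d) 0 1 * y,
        mat (c * d) 1 0 * x + mat (c * d) 1 1 * y, det (c * d) * 0) = φ (mat c 0 0 *
        (mat d 0 0 * x + mat d 0 1 * y) + mat c 0 1 * (mat d 1 0 * x + mat d 1 1 * y), mat c 1 0 *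
        (mat d 0 0 * x + mat d 0 1 * y) + mat c 1 1 * (mat d 1 0 * x + mat d 1 1 * y), det c * (det d * 0)) :=
      fun x y => by
        rw [← hlin c, ← hlin d, ← hlin]
        show (c : X) * d * _ * ((c : X) * d)⁻¹ = _
        group
    have e10 := hinj (e 1 0)
    have e01 := hinj (e 0 1)
    simp only [mul_one, mul_zero, add_zero, zero_add, Prod.ext_iff] at e10 e01
    ext i k
    fin_cases i <;> fin_cases k <;> simp only [Matrix.mul_apply, Fin.sum_univ_two]
    · exact e10.1
    · exact e01.1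
    · exact e10.2.1
    · exact e01.2.1
  have hmat1 : mat 1 = 1 := by
    have e := hlin 1 1 0 0
    have e' := hlin 1 0 1 0
    simp only [OneMemClass.coe_one, one_mul, inv_one, mul_one, mul_zero, add_zero, zero_add] at e e'
    have f := hinj e
    have f' := hinj e'
    simp only [Prod.ext_iff] at f f'
    ext i k
    fin_cases i <;> fin_cases k <;> simp
    · exact f.1.symm
    · exact f'.1.symm
    · exact f.2.1.symm
    · exact f'.2.1.symm
  have hdetne : ∀ c, det c ≠ 0 := fun c h0 => by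
    have := congrArg Matrix.det (hmatmul c c⁻¹)
    rw [mul_inv_cancel, hmat1, Matrix.det_one, Matrix.det_mul, show (mat c).det = 0 from h0, zero_mul] at this
    exact one_ne_zero this
  -- the centre of the kernel is the intersection
  have hCK : ∀ c : C, π' c = 1 → ∃ z : K, φ (0, 0, z) = c := by
    intro c hc
    obtain ⟨⟨x, y, z⟩, hp⟩ := (hker (c : X)).mp hc
    have e : j * φ (x, y, z) * j = φ (x, y, z) := by
      rw [hp, (hCmem _).mp c.2, mul_assoc, hjj, mul_one]
    rw [hjφ] at e
    have := hinj e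
    simp only [Prod.ext_iff] at this
    rw [hneg x this.1, hneg y this.2.1] at hp
    exact ⟨z, hp⟩
  have hzC : ∀ z : K, φ (0, 0, z) ∈ C := fun z => (hCmem _).mpr (by
    calc j * φ (0, 0, z) = j * φ (0, 0, z) * (j * j) := by rw [hjj, mul_one]
    _ = φ (0, 0, z) * j := by rw [← mul_assoc, hjφ]; simp)
  have hmatker : ∀ c : C, π' c = 1 → mat c = 1 := by
    intro c hc
    obtain ⟨z, hz⟩ := hCK c hc
    have e : ∀ x y : K, (c : X) * φ (x, y, 0) * (c : X)⁻¹ = φ (x, y, 0) := fun x y => by
      rw [← hz, hφi, hmul, hmul]; congr 1; simp [mulH, invH, om]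
    have e10 := e 1 0
    have e01 := e 0 1
    rw [hlin] at e10 e01
    have f := hinj e10
    have f' := hinj e01
    simp only [mul_one, mul_zero, add_zero, zero_add, Prod.ext_iff] at f f'
    ext i k
    fin_cases i <;> fin_cases k <;> simp
    · exact f.1
    · exact f'.1
    · exact f.2.1
    · exact f'.2.1
  have hdet : ∀ c, det c = 1 := by
    let δ : C →* K :=
      { toFun := det
        map_one' := by simp only [det]; rw [hmat1, Matrix.det_one]
        map_mul' := fun c d => by simp only [det]; rw [hmatmul, Matrix.det_mul] }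
    have hfac : ∀ c d : C, π' c = π' d → δ c = δ d := fun c d e => by
      have h1 : δ (c * d⁻¹) = 1 := by
        show det _ = 1
        simp only [det]
        rw [hmatker _ (by rw [map_mul, map_inv, e, mul_inv_cancel]), Matrix.det_one]
      calc δ c = δ (c * d⁻¹) * δ d := by rw [← map_mul, inv_mul_cancel_right]
      _ = δ d := by rw [h1, one_mul]
    let δ' : SL2 →* K :=
      { toFun := fun A => δ (hπ's A).choose
        map_one' := by rw [hfac _ 1 (by rw [(hπ's 1).choose_spec, map_one]), map_one]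
        map_mul' := fun A B => by
          rw [← map_mul]
          exact hfac _ _ (by rw [map_mul, (hπ's _).choose_spec, (hπ's _).choose_spec, (hπ's _).choose_spec]) }
    intro c
    have h := sl2_hom_trivial δ' (fun A => by
      show δ (hπ's A).choose ^ 3 = δ (hπ's A).choose
      exact ZMod.pow_card _) (π' c)
    rw [← h]
    exact hfac _ _ (hπ's (π' c)).choose_spec.symm
  let μ : C →* SL2 :=
    { toFun := fun c => ⟨mat c, hdet c⟩
      map_one' := Subtype.ext hmat1
      map_mul' := fun c d => Subtype.ext (hmatmul c d) }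
  have hact : ∀ (c : C) (p : H), (c : X) * φ p * (c : X)⁻¹ = φ (act (μ c) p) := fun c ⟨x, y, z⟩ => by
    rw [hlin, hdet, one_mul]; rfl
  have hμker : μ.ker = π'.ker := by
    refine le_antisymm (fun c hc => ?_) (fun c hc => Subtype.ext (hmatker c hc))
    refine hS.centralizer_le fun r hr => ?_
    obtain ⟨p, rfl⟩ := (hker r).mp hr
    have := hact c p
    rw [MonoidHom.mem_ker.mp hc, show act 1 p = p by simp [act]] at this
    calc (c : X) * φ p = (c : X) * φ p * (c : X)⁻¹ * c := by group
    _ = φ p * c := by rw [this]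
  have hk : ∀ c ∈ μ.ker, ∃ z : K, φ (0, 0, z) = c := fun c hc => hCK c (by rwa [hμker] at hc)
  have hkc : μ.ker ≤ Subgroup.center C := fun c hc => by
    obtain ⟨z, hz⟩ := hk c hc
    refine Subgroup.mem_center_iff.mpr fun d => Subtype.ext ?_
    show (d : X) * c = c * d
    rw [← hz]
    have := hact d (0, 0, z)
    rw [show act (μ d) (0, 0, z) = (0, 0, z) by simp [act]] at this
    exact mul_inv_eq_iff_eq_mul.mp this
  have hk3 : ∀ c ∈ μ.ker, c ^ 3 = 1 := fun c hc => by
    obtain ⟨z, hz⟩ := hk c hc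
    refine Subtype.ext ?_
    show (c : X) ^ 3 = 1
    rw [← hz]; exact hS.exp _ (hφk _)
  have hcard : Nat.card μ.ker = 3 := by
    have e : Nat.card K = Nat.card μ.ker := Nat.card_congr (Equiv.ofBijective
      (fun z : K => (⟨⟨φ (0, 0, z), hzC z⟩, by rw [hμker]; exact hφk _⟩ : μ.ker))
      ⟨fun a b e => by
        have := congrArg (fun v : μ.ker => ((v : C) : X)) e
        exact congrArg (fun q : H => q.2.2) (hinj this),
       fun c => by
        obtain ⟨z, hz⟩ := hk c c.2
        exact ⟨z, Subtype.ext (Subtype.ext hz)⟩⟩)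
    rw [← e, Nat.card_zmod]
  have hμs : Function.Surjective μ := by
    rw [← MonoidHom.range_eq_top]
    refine Subgroup.eq_top_of_card_eq _ ?_
    rw [← Subgroup.index_ker, hμker, Subgroup.index_ker, MonoidHom.range_eq_top.mpr hπ's, Subgroup.card_top]
  -- an element of order three
  obtain ⟨d, hd3, hd1⟩ : ∃ d : C, d ^ 3 = 1 ∧ μ d ≠ 1 := by
    obtain ⟨E, hEc, hE3, hEcard⟩ := hE
    obtain ⟨g, hgE, hg⟩ : ∃ g ∈ E, π g ≠ 1 := by
      by_contra h
      push Not at h
      have : E = π.ker := Subgroup.eq_of_le_of_card_ge (fun g hg => h g hg) (by rw [hEcard, hS.card])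
      obtain ⟨r, hr, s, hs, hrs⟩ := hS.exists_noncomm
      rw [← this] at hr hs
      exact hrs (congrArg Subtype.val (hEc.is_comm.comm ⟨r, hr⟩ ⟨s, hs⟩))
    obtain ⟨r, hrE, hr1, hrZ⟩ : ∃ r ∈ E, π r = 1 ∧ ∀ z : K, φ (0, 0, z) ≠ r := by
      by_contra h
      push Not at h
      let f := π.comp E.subtype
      have h1 := Subgroup.card_mul_index f.ker
      rw [Subgroup.index_ker, hEcard] at h1
      have h2 : Nat.card f.range ∣ 24 := sl2_card ▸ Subgroup.card_subgroup_dvd_card _
      have h3 : Nat.card f.ker ≤ 3 := by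
        have hch : ∀ k : f.ker, ∃ z : K, φ (0, 0, z) = ((k : E) : X) := fun k => h _ (k : E).2 k.2
        choose zf hzf using hch
        have hi : Function.Injective zf := fun a b e => by
          refine Subtype.ext (Subtype.ext ?_)
          rw [← hzf a, ← hzf b, e]
        simpa using Nat.card_le_card_of_injective zf hi
      have h4 : Nat.card f.range ∣ 3 := by
        have := Nat.dvd_gcd (Dvd.intro_left _ h1) h2
        rwa [show Nat.gcd 27 24 = 3 by norm_num] at this
      have h5 : Nat.card f.range ≤ 3 := Nat.le_of_dvd (by norm_num) h4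
      nlinarith
    obtain ⟨c, hc⟩ := hπ's (π g)
    obtain ⟨⟨x, y, z⟩, hp⟩ := (hker (g * (c : X)⁻¹)).mp (by
      rw [map_mul, map_inv, show π (c : X) = π g from hc, mul_inv_cancel])
    let d : C := ⟨φ (0, 0, z), hzC z⟩ * c
    have hgd : g = φ (x, y, 0) * d := by
      show g = φ (x, y, 0) * (φ (0, 0, z) * c)
      rw [← mul_assoc, hmul, show mulH (x, y, 0) (0, 0, z) = (x, y, z) by simp [mulH, om], hp, inv_mul_cancel_right]
    obtain ⟨⟨u, w, t⟩, rfl⟩ := (hker r).mp hr1
    have hne : ¬(u = 0 ∧ w = 0) := fun ⟨hu, hw⟩ => hrZ t (by rw [hu, hw])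
    have hcomm : g * φ (u, w, t) * g⁻¹ = φ (u, w, t) := by
      rw [show g * φ (u, w, t) = φ (u, w, t) * g from congrArg Subtype.val (hEc.is_comm.comm ⟨g, hgE⟩ ⟨_, hrE⟩),
        mul_inv_cancel_right]
    have e : g * φ (u, w, t) * g⁻¹ = φ (x, y, 0) * φ (act (μ d) (u, w, t)) * φ (invH (x, y, 0)) := by
      rw [hgd, ← hact, ← hφi]; group
    rw [hcomm, hmul, hmul] at e
    have he := hinj e
    obtain ⟨A, hA⟩ : ∃ A, μ d = A := ⟨_, rfl⟩
    rw [hA] at he
    simp only [mulH, act, invH, om, Prod.ext_iff] at he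
    obtain ⟨h1, h2, h3⟩ := he
    have hu : A.1 0 0 * u + A.1 0 1 * w = u := by linear_combination -h1
    have hw : A.1 1 0 * u + A.1 1 1 * w = w := by linear_combination -h2
    rw [hu, hw] at h3
    have hom : x * w - y * u = 0 := by
      have h30 : (3 : K) = 0 := by decide
      linear_combination (x * w - y * u) * h30 - h3
    have hspan : ∀ x y u w : K, ¬(u = 0 ∧ w = 0) → x * w - y * u = 0 → ∃ k : K, x = k * u ∧ y = k * w := by
      decide +kernel
    obtain ⟨k, rfl, rfl⟩ := hspan x y u w hne hom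
    have hfix : (d : X) * φ (k * u, k * w, 0) * (d : X)⁻¹ = φ (k * u, k * w, 0) := by
      rw [hact, hA]
      congr 1
      simp only [act]
      refine Prod.ext ?_ (Prod.ext ?_ rfl)
      · linear_combination k * hu
      · linear_combination k * hw
    refine ⟨d, Subtype.ext ?_, ?_⟩
    · show (d : X) ^ 3 = 1
      have hc : Commute (φ (k * u, k * w, 0)) (d : X) := (mul_inv_eq_iff_eq_mul.mp hfix).symm
      have := hc.mul_pow 3
      rwa [← hgd, hE3 g hgE, hS.exp _ (hφk _), one_mul, eq_comm] at this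
    · intro h
      have hd : π' d = 1 := by rw [← MonoidHom.mem_ker, ← hμker]; exact h
      refine hg ?_
      rw [hgd, map_mul, hφk, one_mul]; exact hd
  obtain ⟨s0, hs0⟩ := exists_section μ hμs hkc hk3 hcard hd3 hd1
  refine ⟨⟨φ, C.subtype.comp s0, hmul, fun A p => ?_, ?_⟩⟩
  · show (s0 A : X) * φ p * (s0 A : X)⁻¹ = _
    rw [hact, hs0]
  · have hinjΨ : Function.Injective fun q : H × SL2 => φ q.1 * (s0 q.2 : X) := by
      rintro ⟨p, A⟩ ⟨q, B⟩ e
      simp only at e
      have hπ : π' (s0 A) = π' (s0 B) := by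
        show π (s0 A : X) = π (s0 B : X)
        have := congrArg π e
        simpa [hφk] using this
      have hAB : A = B := by
        rw [← hs0 A, ← hs0 B]
        have : s0 A * (s0 B)⁻¹ ∈ μ.ker := by
          rw [hμker, MonoidHom.mem_ker, map_mul, map_inv, hπ, mul_inv_cancel]
        rw [MonoidHom.mem_ker, map_mul, map_inv, mul_inv_eq_one] at this
        exact this
      subst hAB
      rw [hinj (mul_right_cancel e)]
    refine (Nat.bijective_iff_injective_and_card _).mpr ⟨hinjΨ, ?_⟩
    rw [Nat.card_prod, sl2_card, ← Subgroup.card_mul_index π.ker, hS.card, Subgroup.index_ker,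
      MonoidHom.range_eq_top.mpr hS.surj, Subgroup.card_top, sl2_card]
    simp

end CfsgLib.Classical.HeisSL
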